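import Mathlib
import Groth.Prelude.Def_Wider
import Groth.Prelude.Def_DDual2

/-!
# Twisting by a flat module on `D(A)`; invertible twists of dualizing complexes (helper5)
-/

set_option autoImplicit false
universe u
open CategoryTheory Limits DerivedCategory MonoidalCategory Pretriangulated
attribute [local instance] HasDerivedCategory.standard

namespace Groth.Agent.Lib.Helper5.InvTw

variable {A : Type u} [CommRing A]

/-- the exact functor `- ⊗ P` on `D(A)` for a flat module `P` -/
noncomputable abbrev FP (P : ModuleCat.{u} A) [Module.Flat A P] : Dual.D A ⥤ Dual.D A :=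
  (tensorRight P).mapDerivedCategory

/-- `- ⊗^L P` is the exact functor `- ⊗ P` for flat `P` -/
noncomputable def ltensorIso (P : ModuleCat.{u} A) [Module.Flat A P] [DRing.HasLTensor A P] :
    DRing.LTensor A P ≅ FP P := by
  haveI : (FP P).IsLeftDerivedFunctor ((tensorRight P).mapDerivedCategoryFactorsh).hom
      (HomotopyCategory.quasiIso (ModuleCat.{u} A) (ComplexShape.up ℤ)) :=
    Functor.isLeftDerivedFunctor_of_inverts _ (FP P) ((tensorRight P).mapDerivedCategoryFactorsh)
  exact Functor.leftDerivedUnique (FP P) (DRing.LTensor A P)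
    ((DRing.tensorKh A P).totalLeftDerivedCounit DerivedCategory.Qh
      (HomotopyCategory.quasiIso (ModuleCat.{u} A) (ComplexShape.up ℤ)))
    ((tensorRight P).mapDerivedCategoryFactorsh).hom
    (HomotopyCategory.quasiIso (ModuleCat.{u} A) (ComplexShape.up ℤ))

/-- composing two exact functors on the derived categories, when the composite is the identity -/
noncomputable def compIsoId (F G : ModuleCat.{u} A ⥤ ModuleCat.{u} A) [F.Additive] [G.Additive]
    [PreservesFiniteLimits F] [PreservesFiniteColimits F]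
    [PreservesFiniteLimits G] [PreservesFiniteColimits G] (θ : F ⋙ G ≅ 𝟭 _) :
    F.mapDerivedCategory ⋙ G.mapDerivedCategory ≅ 𝟭 (Dual.D A) := by
  let e : Q ⋙ (F.mapDerivedCategory ⋙ G.mapDerivedCategory) ≅ Q ⋙ 𝟭 (Dual.D A) :=
    (Functor.associator _ _ _).symm ≪≫
      Functor.isoWhiskerRight F.mapDerivedCategoryFactors G.mapDerivedCategory ≪≫
      Functor.associator _ _ _ ≪≫
      Functor.isoWhiskerLeft (F.mapHomologicalComplex (ComplexShape.up ℤ))
        G.mapDerivedCategoryFactors ≪≫
      (Functor.associator _ _ _).symm ≪≫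
      Functor.isoWhiskerRight (Functor.mapHomologicalComplexCompIso θ (ComplexShape.up ℤ) ≪≫
        Functor.mapHomologicalComplexIdIso _ _) Q ≪≫
      Functor.leftUnitor _ ≪≫ (Functor.rightUnitor _).symm
  exact Localization.liftNatIso Q (HomologicalComplex.quasiIso (ModuleCat.{u} A) (ComplexShape.up ℤ))
    (Q ⋙ (F.mapDerivedCategory ⋙ G.mapDerivedCategory)) (Q ⋙ 𝟭 (Dual.D A)) _ _ e

/-- `(- ⊗ P) ⊗ P' ≅ id` when `P ⊗ P' ≅ A` -/
noncomputable def tensorRightCompIso (P P' : ModuleCat.{u} A) (e : P ⊗ P' ≅ 𝟙_ (ModuleCat.{u} A)) :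
    tensorRight P ⋙ tensorRight P' ≅ 𝟭 (ModuleCat.{u} A) :=
  (tensorRightTensor P P').symm ≪≫ (tensoringRight (ModuleCat.{u} A)).mapIso e ≪≫
    rightUnitorNatIso (ModuleCat.{u} A)

/-- twisting by `P` then by `P'` is the identity when `P ⊗ P' ≅ A` -/
noncomputable def fpCompIso (P P' : ModuleCat.{u} A) [Module.Flat A P] [Module.Flat A P']
    (e : P ⊗ P' ≅ 𝟙_ (ModuleCat.{u} A)) : FP P ⋙ FP P' ≅ 𝟭 (Dual.D A) :=
  compIsoId (tensorRight P) (tensorRight P') (tensorRightCompIso P P' e)

/-- the twist of a module in degree `0` -/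
noncomputable def fpSingle (P : ModuleCat.{u} A) [Module.Flat A P] (M : ModuleCat.{u} A) :
    (FP P).obj ((singleFunctor (ModuleCat.{u} A) 0).obj M) ≅
      (singleFunctor (ModuleCat.{u} A) 0).obj (M ⊗ P) :=
  ((tensorRight P).mapDerivedCategorySingleFunctor 0).app M

/-- the twisting equivalence -/
noncomputable def fpEquiv (P P' : ModuleCat.{u} A) [Module.Flat A P] [Module.Flat A P']
    (e : P ⊗ P' ≅ 𝟙_ (ModuleCat.{u} A)) : Dual.D A ≌ Dual.D A :=
  CategoryTheory.Equivalence.mk (FP P) (FP P') (fpCompIso P P' e).symm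
    (fpCompIso P' P ((β_ P' P) ≪≫ e))

/-- the cohomology of a twist -/
noncomputable def fpHomology (P : ModuleCat.{u} A) [Module.Flat A P] (K : Dual.D A) (i : ℤ) :
    (homologyFunctor (ModuleCat.{u} A) i).obj ((FP P).obj K) ≅
      (homologyFunctor (ModuleCat.{u} A) i).obj K ⊗ P := by
  let E := Q.objPreimage K
  let eK : Q.obj E ≅ K := Q.objObjPreimageIso K
  exact (homologyFunctor _ i).mapIso ((FP P).mapIso eK.symm ≪≫
      (tensorRight P).mapDerivedCategoryFactors.app E) ≪≫
    (homologyFunctorFactors _ i).app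
      (((tensorRight P).mapHomologicalComplex (ComplexShape.up ℤ)).obj E) ≪≫
    (E.sc i).mapHomologyIso (tensorRight P) ≪≫
    (tensorRight P).mapIso (((homologyFunctorFactors _ i).app E).symm ≪≫
      (homologyFunctor _ i).mapIso eK)

theorem finite_fpHomology (P : ModuleCat.{u} A) [Module.Flat A P] [Module.Finite A P]
    (K : Dual.D A) (i : ℤ) (h : Module.Finite A (Dual.HD A K i)) :
    Module.Finite A (Dual.HD A ((FP P).obj K) i) := by
  haveI : Module.Finite A ((homologyFunctor (ModuleCat.{u} A) i).obj K) := h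
  haveI : Module.Finite A
      (((homologyFunctor (ModuleCat.{u} A) i).obj K ⊗ P : ModuleCat.{u} A)) := by
    show Module.Finite A (TensorProduct A ((homologyFunctor (ModuleCat.{u} A) i).obj K) P)
    infer_instance
  exact Module.Finite.equiv (fpHomology P K i).symm.toLinearEquiv

/-- being dualizing is invariant under isomorphism (as in helper3's `BCDual`) -/
theorem isDualizing_of_iso {ω ω' : Dual.D A} (e : ω ≅ ω') (h : Dual.IsDualizing A ω) :
    Dual.IsDualizing A ω' where
  isNoetherianRing := h.isNoetherianRing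
  finite_injective_dimension := by
    obtain ⟨a, b, hab⟩ := h.finite_injective_dimension
    refine ⟨a, b, fun M _ _ i hi => ?_⟩
    have := hab M i hi
    exact (Iso.homCongr (Iso.refl (Dual.inD A M))
      ((shiftFunctor (Dual.D A) i).mapIso e)).symm.subsingleton
  finite_cohomology i := by
    have := h.finite_cohomology i
    exact Module.Finite.equiv
      ((DerivedCategory.homologyFunctor (ModuleCat.{u} A) i).mapIso e).toLinearEquiv
  toEnd_bijective := by
    have h1 := h.toEnd_bijective
    have h2 : (fun a : A => a • 𝟙 ω') =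
        (fun φ : ω ⟶ ω => e.inv ≫ φ ≫ e.hom) ∘ (fun a : A => a • 𝟙 ω) := by
      funext a
      simp only [Function.comp_apply, Linear.smul_comp, Linear.comp_smul, Category.id_comp,
        Iso.inv_hom_id]
    rw [h2]
    exact (Iso.homCongr e e).bijective.comp h1
  ext_self_subsingleton i hi := by
    have := h.ext_self_subsingleton i hi
    exact (Iso.homCongr e ((shiftFunctor (Dual.D A) i).mapIso e)).symm.subsingleton

/-- being dualizing is invariant under shifts (as in helper3's `GorLocus`) -/
theorem isDualizing_shift {ω : Dual.D A} (hω : Dual.IsDualizing A ω) (s : ℤ) :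
    Dual.IsDualizing A (ω⟦s⟧) where
  isNoetherianRing := hω.isNoetherianRing
  finite_injective_dimension := by
    obtain ⟨a, b, hab⟩ := hω.finite_injective_dimension
    refine ⟨a - s, b - s, fun M _ _ i hi => ?_⟩
    haveI := hab M (s + i) (by omega)
    exact (Iso.homCongr (Iso.refl (Dual.inD A M))
      ((shiftFunctorAdd' (Dual.D A) s i (s + i) rfl).app ω).symm).subsingleton
  finite_cohomology i := by
    haveI := hω.finite_cohomology (s + i)
    have e : Dual.HD A ω (s + i) ≃ₗ[A] Dual.HD A (ω⟦s⟧) i :=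
      (((DerivedCategory.homologyFunctor (ModuleCat.{u} A) 0).shiftIso s i (s + i) rfl).app
        ω).symm.toLinearEquiv
    exact Module.Finite.equiv e
  toEnd_bijective := by
    have h1 := hω.toEnd_bijective
    have h2 : (fun a : A => a • 𝟙 (ω⟦s⟧)) =
        (fun φ : ω ⟶ ω => φ⟦s⟧') ∘ (fun a : A => a • 𝟙 ω) := by
      funext a
      simp only [Function.comp_apply, Functor.map_smul, CategoryTheory.Functor.map_id]
    rw [h2]
    refine Function.Bijective.comp ⟨?_, ?_⟩ h1
    · exact (shiftFunctor (Dual.D A) s).map_injective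
    · exact (shiftFunctor (Dual.D A) s).map_surjective
  ext_self_subsingleton i hi := by
    haveI := hω.ext_self_subsingleton i hi
    refine ⟨fun f g => ?_⟩
    let c : (ω⟦s⟧)⟦i⟧ ≅ (ω⟦i⟧)⟦s⟧ := (shiftFunctorComm (Dual.D A) s i).app ω
    obtain ⟨f', hf'⟩ := (shiftFunctor (Dual.D A) s).map_surjective (f ≫ c.hom)
    obtain ⟨g', hg'⟩ := (shiftFunctor (Dual.D A) s).map_surjective (g ≫ c.hom)
    have : f' = g' := Subsingleton.elim _ _
    rw [← cancel_mono c.hom, ← hf', ← hg', this]

/-- a linear equivalence of `D(A)` commuting with shifts and sending modules to modules preserves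
dualizing complexes -/
theorem isDualizing_of_equivalence (e : Dual.D A ≌ Dual.D A) [e.functor.CommShift ℤ]
    [e.functor.Linear A]
    (hsingle : ∀ M : ModuleCat.{u} A, ∃ M' : ModuleCat.{u} A,
      Nonempty (e.inverse.obj ((singleFunctor (ModuleCat.{u} A) 0).obj M) ≅
        (singleFunctor (ModuleCat.{u} A) 0).obj M'))
    (ω : Dual.D A) (hω : Dual.IsDualizing A ω)
    (hfin : ∀ i : ℤ, Module.Finite A (Dual.HD A (e.functor.obj ω) i)) :
    Dual.IsDualizing A (e.functor.obj ω) where
  isNoetherianRing := hω.isNoetherianRing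
  finite_injective_dimension := by
    obtain ⟨a, b, hab⟩ := hω.finite_injective_dimension
    refine ⟨a, b, fun M _ _ i hi => ?_⟩
    obtain ⟨M', ⟨φ⟩⟩ := hsingle (ModuleCat.of A M)
    haveI : Subsingleton ((singleFunctor (ModuleCat.{u} A) 0).obj M' ⟶ ω⟦i⟧) := hab M' i hi
    let c : (e.functor.obj ω)⟦i⟧ ≅ e.functor.obj (ω⟦i⟧) := ((e.functor.commShiftIso i).app ω).symm
    exact ((Iso.homCongr (Iso.refl (Dual.inD A M)) c).trans
      ((e.symm.toAdjunction.homEquiv _ _).symm.trans
        (Iso.homCongr φ (Iso.refl (ω⟦i⟧))))).subsingleton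
  finite_cohomology := hfin
  toEnd_bijective := by
    have h1 := hω.toEnd_bijective
    have h2 : (fun a : A => a • 𝟙 (e.functor.obj ω)) =
        (fun φ : ω ⟶ ω => e.functor.map φ) ∘ (fun a : A => a • 𝟙 ω) := by
      funext a
      simp only [Function.comp_apply, Functor.map_smul, CategoryTheory.Functor.map_id]
    rw [h2]
    exact (e.fullyFaithfulFunctor.map_bijective ω ω).comp h1
  ext_self_subsingleton i hi := by
    haveI := hω.ext_self_subsingleton i hi
    let c : (e.functor.obj ω)⟦i⟧ ≅ e.functor.obj (ω⟦i⟧) := ((e.functor.commShiftIso i).app ω).symm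
    exact ((Iso.homCongr (Iso.refl (e.functor.obj ω)) c).trans
      (e.fullyFaithfulFunctor.homEquiv (X := ω) (Y := ω⟦i⟧)).symm).subsingleton

/-- the inverse of an invertible module, as an isomorphism in `ModuleCat` -/
noncomputable def invIso (P : Type u) [AddCommGroup P] [Module A P] [Module.Invertible A P] :
    ModuleCat.of A P ⊗ ModuleCat.of A (Module.Dual A P) ≅ 𝟙_ (ModuleCat.{u} A) :=
  (TensorProduct.comm A P (Module.Dual A P) ≪≫ₗ Module.Invertible.linearEquiv A P).toModuleIso

/-- the equivalence of `D(A)` given by an invertible module -/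
noncomputable def invEquiv (P : Type u) [AddCommGroup P] [Module A P] [Module.Invertible A P] :
    Dual.D A ≌ Dual.D A :=
  fpEquiv (ModuleCat.of A P) (ModuleCat.of A (Module.Dual A P)) (invIso P)

noncomputable instance (P : Type u) [AddCommGroup P] [Module A P] [Module.Invertible A P] :
    (invEquiv (A := A) P).functor.CommShift ℤ :=
  inferInstanceAs ((FP (ModuleCat.of A P)).CommShift ℤ)

instance (P : Type u) [AddCommGroup P] [Module A P] [Module.Invertible A P] :
    (invEquiv (A := A) P).functor.Linear A :=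
  inferInstanceAs ((FP (ModuleCat.of A P)).Linear A)

theorem isDualizing_FP (P : Type u) [AddCommGroup P] [Module A P] [Module.Invertible A P]
    (ω : Dual.D A) (hω : Dual.IsDualizing A ω) :
    Dual.IsDualizing A ((FP (ModuleCat.of A P)).obj ω) := by
  refine isDualizing_of_equivalence (invEquiv (A := A) P) (fun M => ?_) ω hω (fun i => ?_)
  · exact ⟨_, ⟨fpSingle (ModuleCat.of A (Module.Dual A P)) M⟩⟩
  · exact finite_fpHomology (ModuleCat.of A P) ω i (hω.finite_cohomology i)

theorem main_S11183 (A : Type u) [CommRing A] [IsNoetherianRing A] (ω : Dual.D A)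
    (hω : Dual.IsDualizing A ω) (P : Type u) [AddCommGroup P] [Module A P]
    [Module.Invertible A P] [DRing.HasLTensor A (ModuleCat.of A P)] (n : ℤ) :
    Dual.IsDualizing A (((DRing.LTensor A (ModuleCat.of A P)).obj ω)⟦n⟧) :=
  isDualizing_shift (isDualizing_of_iso ((ltensorIso (ModuleCat.of A P)).app ω).symm
    (isDualizing_FP P ω hω)) n

end Groth.Agent.Lib.Helper5.InvTw
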