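import Mathlib
import Groth.Prelude.Def_Wider
import Groth.Prelude.Def_DDual2
import Groth.Agent.Lib.Helper5.InvTw.Basic

/-!
# Uniqueness of the invertible twist and the shift of a dualizing complex (helper5)
-/

set_option autoImplicit false
universe u
open CategoryTheory Limits DerivedCategory MonoidalCategory Pretriangulated
attribute [local instance] HasDerivedCategory.standard

namespace Groth.Agent.Lib.Helper5.InvTw

variable {A : Type u} [CommRing A]

section Alg

variable (L : Type u) [AddCommGroup L] [Module A L] [Module.Invertible A L]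

/-- an invertible module whose evaluation pairing factors as a product of two functionals is free -/
theorem nonempty_linearEquiv_of_factor (β : L →ₗ[A] A) (α : Module.Dual A L →ₗ[A] A)
    (h : ∀ (lam : Module.Dual A L) (l : L), lam l = β l * α lam) : Nonempty (L ≃ₗ[A] A) := by
  let g : TensorProduct A (Module.Dual A L) L →ₗ[A] L :=
    TensorProduct.lift (LinearMap.mk₂ A (fun lam l => α lam • l)
      (fun m₁ m₂ l => by simp [add_smul]) (fun c m l => by simp [mul_smul])
      (fun m l₁ l₂ => by simp) (fun c m l => smul_comm (α m) c l))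
  have hg : contractLeft A L = β ∘ₗ g := by
    apply TensorProduct.ext'
    intro lam l
    simp [g, h lam l, mul_comm]
  obtain ⟨t, ht⟩ := (Module.Invertible.bijective (R := A) (M := L)).2 (1 : A)
  have h1 : β (g t) = 1 := by
    rw [← ht, hg]; rfl
  have hsurj : Function.Surjective β := by
    intro a
    exact ⟨a • g t, by simp [h1]⟩
  exact ⟨LinearEquiv.ofBijective β (Module.Invertible.bijective_of_surjective hsurj)⟩

theorem false_of_pairing_zero [Nontrivial A]
    (h : ∀ (lam : Module.Dual A L) (l : L), lam l = 0) : False := by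
  have hb := (Module.Invertible.bijective (R := A) (M := L))
  obtain ⟨t, ht⟩ := hb.2 (1 : A)
  have h0 : contractLeft A L = 0 := by
    apply TensorProduct.ext'
    intro lam l
    simp [h lam l]
  rw [h0] at ht
  exact zero_ne_one ht

end Alg

section Cx

variable (L : Type u) [AddCommGroup L] [Module A L]

/-- an element of `L` as a map from the unit -/
noncomputable def lhat (l : L) : 𝟙_ (ModuleCat.{u} A) ⟶ ModuleCat.of A L :=
  ModuleCat.ofHom (LinearMap.toSpanSingleton A L l)

/-- a functional on `L` as a map to the unit -/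
noncomputable def lamhat (lam : Module.Dual A L) : ModuleCat.of A L ⟶ 𝟙_ (ModuleCat.{u} A) :=
  ModuleCat.ofHom lam

lemma lhat_add (l l' : L) : lhat (A := A) L (l + l') = lhat L l + lhat L l' := by
  apply ModuleCat.hom_ext
  apply LinearMap.ext_ring
  simp [lhat]

lemma lhat_smul (a : A) (l : L) : lhat (A := A) L (a • l) = a • lhat L l := by
  apply ModuleCat.hom_ext
  apply LinearMap.ext_ring
  simp [lhat]

lemma lamhat_add (lam lam' : Module.Dual A L) :
    lamhat (A := A) L (lam + lam') = lamhat L lam + lamhat L lam' := rfl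

lemma lamhat_smul (a : A) (lam : Module.Dual A L) :
    lamhat (A := A) L (a • lam) = a • lamhat L lam := rfl

lemma lhat_lamhat (l : L) (lam : Module.Dual A L) :
    lhat (A := A) L l ≫ lamhat L lam = (lam l) • 𝟙 (𝟙_ (ModuleCat.{u} A)) := by
  apply ModuleCat.hom_ext
  apply LinearMap.ext_ring
  simp [lhat, lamhat]

/-- `x ↦ x ⊗ l` -/
noncomputable def tauX (X : ModuleCat.{u} A) (l : L) : X ⟶ (tensorRight (ModuleCat.of A L)).obj X :=
  (ρ_ X).inv ≫ (X ◁ lhat L l)

/-- `x ⊗ l ↦ lam l • x` -/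
noncomputable def sigX (X : ModuleCat.{u} A) (lam : Module.Dual A L) :
    (tensorRight (ModuleCat.of A L)).obj X ⟶ X :=
  (X ◁ lamhat L lam) ≫ (ρ_ X).hom

lemma tauX_naturality {X Y : ModuleCat.{u} A} (f : X ⟶ Y) (l : L) :
    tauX L X l ≫ (tensorRight (ModuleCat.of A L)).map f = f ≫ tauX L Y l := by
  unfold tauX
  dsimp
  rw [Category.assoc, whisker_exchange, ← Category.assoc, ← rightUnitor_inv_naturality,
    Category.assoc]

lemma sigX_naturality {X Y : ModuleCat.{u} A} (f : X ⟶ Y) (lam : Module.Dual A L) :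
    (tensorRight (ModuleCat.of A L)).map f ≫ sigX L Y lam = sigX L X lam ≫ f := by
  unfold sigX
  dsimp
  rw [Category.assoc, ← rightUnitor_naturality, ← Category.assoc, ← whisker_exchange,
    Category.assoc]

lemma tauX_add (X : ModuleCat.{u} A) (l l' : L) :
    tauX L X (l + l') = tauX L X l + tauX L X l' := by
  unfold tauX
  rw [lhat_add, MonoidalPreadditive.whiskerLeft_add, Preadditive.comp_add]

lemma tauX_smul (X : ModuleCat.{u} A) (a : A) (l : L) :
    tauX L X (a • l) = a • tauX L X l := by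
  unfold tauX
  rw [lhat_smul, MonoidalLinear.whiskerLeft_smul, Linear.comp_smul]

lemma sigX_add (X : ModuleCat.{u} A) (lam lam' : Module.Dual A L) :
    sigX L X (lam + lam') = sigX L X lam + sigX L X lam' := by
  unfold sigX
  rw [lamhat_add, MonoidalPreadditive.whiskerLeft_add, Preadditive.add_comp]

lemma sigX_smul (X : ModuleCat.{u} A) (a : A) (lam : Module.Dual A L) :
    sigX L X (a • lam) = a • sigX L X lam := by
  unfold sigX
  rw [lamhat_smul, MonoidalLinear.whiskerLeft_smul, Linear.smul_comp]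

lemma tauX_sigX (X : ModuleCat.{u} A) (l : L) (lam : Module.Dual A L) :
    tauX L X l ≫ sigX L X lam = (lam l) • 𝟙 X := by
  unfold tauX sigX
  rw [Category.assoc, ← Category.assoc (X ◁ lhat L l), ← MonoidalCategory.whiskerLeft_comp,
    lhat_lamhat, MonoidalLinear.whiskerLeft_smul, MonoidalCategory.whiskerLeft_id,
    Linear.smul_comp, Linear.comp_smul, Category.id_comp, Iso.inv_hom_id]

variable (E : DRing.Cx A)

/-- `x ↦ x ⊗ l` on complexes -/
noncomputable def tauC (l : L) : E ⟶
    ((tensorRight (ModuleCat.of A L)).mapHomologicalComplex (ComplexShape.up ℤ)).obj E where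
  f i := tauX L (E.X i) l
  comm' i j _ := tauX_naturality L (E.d i j) l

/-- `x ⊗ l ↦ lam l • x` on complexes -/
noncomputable def sigC (lam : Module.Dual A L) :
    ((tensorRight (ModuleCat.of A L)).mapHomologicalComplex (ComplexShape.up ℤ)).obj E ⟶ E where
  f i := sigX L (E.X i) lam
  comm' i j _ := (sigX_naturality L (E.d i j) lam).symm

lemma tauC_add (l l' : L) : tauC L E (l + l') = tauC L E l + tauC L E l' :=
  HomologicalComplex.hom_ext _ _ (fun i => tauX_add L (E.X i) l l')

lemma tauC_smul (a : A) (l : L) : tauC L E (a • l) = a • tauC L E l :=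
  HomologicalComplex.hom_ext _ _ (fun i => tauX_smul L (E.X i) a l)

lemma sigC_add (lam lam' : Module.Dual A L) :
    sigC L E (lam + lam') = sigC L E lam + sigC L E lam' :=
  HomologicalComplex.hom_ext _ _ (fun i => sigX_add L (E.X i) lam lam')

lemma sigC_smul (a : A) (lam : Module.Dual A L) : sigC L E (a • lam) = a • sigC L E lam :=
  HomologicalComplex.hom_ext _ _ (fun i => sigX_smul L (E.X i) a lam)

lemma tauC_sigC (l : L) (lam : Module.Dual A L) :
    tauC L E l ≫ sigC L E lam = (lam l) • 𝟙 E :=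
  HomologicalComplex.hom_ext _ _ (fun i => tauX_sigX L (E.X i) l lam)

end Cx

section Der

variable (L : Type u) [AddCommGroup L] [Module A L] [Module.Flat A L] (ω : Dual.D A)

/-- a complex representing `ω` -/
noncomputable def repE : DRing.Cx A := Q.objPreimage ω

/-- the comparison -/
noncomputable def repIso : Q.obj (repE ω) ≅ ω := Q.objObjPreimageIso ω

/-- the twist of `ω` computed on the representative -/
noncomputable def twIso :
    Q.obj (((tensorRight (ModuleCat.of A L)).mapHomologicalComplex (ComplexShape.up ℤ)).obj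
      (repE ω)) ≅ (FP (ModuleCat.of A L)).obj ω :=
  ((tensorRight (ModuleCat.of A L)).mapDerivedCategoryFactors.app (repE ω)).symm ≪≫
    (FP (ModuleCat.of A L)).mapIso (repIso ω)

/-- `l ↦ (x ↦ x ⊗ l)` as a linear map into `Hom(ω, ω ⊗ L)` -/
noncomputable def tauLin : L →ₗ[A] (ω ⟶ (FP (ModuleCat.of A L)).obj ω) where
  toFun l := (repIso ω).inv ≫ Q.map (tauC L (repE ω) l) ≫ (twIso L ω).hom
  map_add' l l' := by
    rw [tauC_add, Functor.map_add, Preadditive.add_comp, Preadditive.comp_add]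
  map_smul' a l := by
    rw [tauC_smul, Functor.map_smul, Linear.smul_comp, Linear.comp_smul]
    rfl

/-- `lam ↦ (x ⊗ l ↦ lam l • x)` as a linear map into `Hom(ω ⊗ L, ω)` -/
noncomputable def sigLin : Module.Dual A L →ₗ[A] ((FP (ModuleCat.of A L)).obj ω ⟶ ω) where
  toFun lam := (twIso L ω).inv ≫ Q.map (sigC L (repE ω) lam) ≫ (repIso ω).hom
  map_add' l l' := by
    rw [sigC_add, Functor.map_add, Preadditive.add_comp, Preadditive.comp_add]
  map_smul' a l := by
    rw [sigC_smul, Functor.map_smul, Linear.smul_comp, Linear.comp_smul]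
    rfl

lemma tauLin_sigLin (l : L) (lam : Module.Dual A L) :
    tauLin L ω l ≫ sigLin L ω lam = (lam l) • 𝟙 ω := by
  show ((repIso ω).inv ≫ Q.map (tauC L (repE ω) l) ≫ (twIso L ω).hom) ≫
    ((twIso L ω).inv ≫ Q.map (sigC L (repE ω) lam) ≫ (repIso ω).hom) = _
  simp only [Category.assoc, Iso.hom_inv_id_assoc]
  rw [← Functor.map_comp_assoc, tauC_sigC, Functor.map_smul, Linear.smul_comp, Linear.comp_smul,
    CategoryTheory.Functor.map_id, Category.id_comp, Iso.inv_hom_id]

end Der

section Core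

variable (L : Type u) [AddCommGroup L] [Module A L] [Module.Invertible A L]

/-- if a shift of a dualizing complex is its twist by an invertible module, the shift is zero and
the module is free -/
theorem core [Nontrivial A] (ω : Dual.D A) (hω : Dual.IsDualizing A ω) (m : ℤ)
    (φ : ω⟦m⟧ ≅ (FP (ModuleCat.of A L)).obj ω) : m = 0 ∧ Nonempty (L ≃ₗ[A] A) := by
  have hinj : ∀ a : A, a • 𝟙 ω = 0 → a = 0 := by
    intro a ha
    apply hω.toEnd_bijective.1
    show a • 𝟙 ω = (0 : A) • 𝟙 ω
    rw [ha, zero_smul]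
  have hm : m = 0 := by
    by_contra hne
    haveI := hω.ext_self_subsingleton m hne
    apply false_of_pairing_zero (A := A) L
    intro lam l
    apply hinj
    rw [← tauLin_sigLin L ω l lam]
    have h0 : tauLin L ω l = 0 := by
      have h1 : tauLin L ω l ≫ φ.inv = 0 := Subsingleton.elim _ _
      rw [← cancel_mono φ.inv, h1, zero_comp]
    rw [h0, zero_comp]
  subst hm
  refine ⟨rfl, ?_⟩
  let φ₀ : ω ≅ (FP (ModuleCat.of A L)).obj ω :=
    ((shiftFunctorZero (Dual.D A) ℤ).app ω).symm ≪≫ φ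
  let toEnd : A ≃ₗ[A] (ω ⟶ ω) :=
    LinearEquiv.ofBijective (LinearMap.toSpanSingleton A (ω ⟶ ω) (𝟙 ω)) hω.toEnd_bijective
  have htoEnd : ∀ a : A, toEnd a = a • 𝟙 ω := fun a => rfl
  let β : L →ₗ[A] A :=
    toEnd.symm.toLinearMap ∘ₗ (Linear.rightComp A ω φ₀.inv) ∘ₗ tauLin L ω
  let α : Module.Dual A L →ₗ[A] A :=
    toEnd.symm.toLinearMap ∘ₗ (Linear.leftComp A ω φ₀.hom) ∘ₗ sigLin L ω
  apply nonempty_linearEquiv_of_factor L β α
  intro lam l
  apply toEnd.injective
  rw [htoEnd, htoEnd]
  have hβ : (β l) • 𝟙 ω = tauLin L ω l ≫ φ₀.inv := by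
    rw [← htoEnd]
    exact toEnd.apply_symm_apply _
  have hα : (α lam) • 𝟙 ω = φ₀.hom ≫ sigLin L ω lam := by
    rw [← htoEnd]
    exact toEnd.apply_symm_apply _
  calc (lam l) • 𝟙 ω = tauLin L ω l ≫ sigLin L ω lam := (tauLin_sigLin L ω l lam).symm
    _ = (tauLin L ω l ≫ φ₀.inv) ≫ (φ₀.hom ≫ sigLin L ω lam) := by
        rw [Category.assoc, Iso.inv_hom_id_assoc]
    _ = ((β l) • 𝟙 ω) ≫ ((α lam) • 𝟙 ω) := by rw [hβ, hα]
    _ = (β l * α lam) • 𝟙 ω := by
        rw [Linear.smul_comp, Category.id_comp, smul_smul]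

end Core

section Main

/-- composing two exact functors on the derived categories -/
noncomputable def compIso (F G H : ModuleCat.{u} A ⥤ ModuleCat.{u} A) [F.Additive] [G.Additive]
    [H.Additive] [PreservesFiniteLimits F] [PreservesFiniteColimits F]
    [PreservesFiniteLimits G] [PreservesFiniteColimits G]
    [PreservesFiniteLimits H] [PreservesFiniteColimits H] (θ : F ⋙ G ≅ H) :
    F.mapDerivedCategory ⋙ G.mapDerivedCategory ≅ H.mapDerivedCategory := by
  let e : Q ⋙ (F.mapDerivedCategory ⋙ G.mapDerivedCategory) ≅ Q ⋙ H.mapDerivedCategory :=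
    (Functor.associator _ _ _).symm ≪≫
      Functor.isoWhiskerRight F.mapDerivedCategoryFactors G.mapDerivedCategory ≪≫
      Functor.associator _ _ _ ≪≫
      Functor.isoWhiskerLeft (F.mapHomologicalComplex (ComplexShape.up ℤ))
        G.mapDerivedCategoryFactors ≪≫
      (Functor.associator _ _ _).symm ≪≫
      Functor.isoWhiskerRight (Functor.mapHomologicalComplexCompIso θ (ComplexShape.up ℤ)) Q ≪≫
      H.mapDerivedCategoryFactors.symm
  exact Localization.liftNatIso Q (HomologicalComplex.quasiIso (ModuleCat.{u} A) (ComplexShape.up ℤ))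
    (Q ⋙ (F.mapDerivedCategory ⋙ G.mapDerivedCategory)) (Q ⋙ H.mapDerivedCategory) _ _ e

/-- twisting twice is twisting by the tensor product -/
noncomputable def fpTensorIso (P R : ModuleCat.{u} A) [Module.Flat A P] [Module.Flat A R]
    [Module.Flat A (P ⊗ R : ModuleCat.{u} A)] : FP P ⋙ FP R ≅ FP (P ⊗ R) :=
  compIso (tensorRight P) (tensorRight R) (tensorRight (P ⊗ R)) (tensorRightTensor P R).symm

theorem main_S11187 (A : Type u) [CommRing A] [IsNoetherianRing A] [Nontrivial A] (ω : Dual.D A)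
    (hω : Dual.IsDualizing A ω) (P P' : Type u) [AddCommGroup P] [Module A P]
    [Module.Invertible A P] [AddCommGroup P'] [Module A P'] [Module.Invertible A P']
    [DRing.HasLTensor A (ModuleCat.of A P)] [DRing.HasLTensor A (ModuleCat.of A P')] (n n' : ℤ)
    (h : Nonempty (((DRing.LTensor A (ModuleCat.of A P)).obj ω)⟦n⟧ ≅
      ((DRing.LTensor A (ModuleCat.of A P')).obj ω)⟦n'⟧)) :
    n = n' ∧ Nonempty (P ≃ₗ[A] P') := by
  obtain ⟨h⟩ := h
  let Pm : ModuleCat.{u} A := ModuleCat.of A P
  let P'm : ModuleCat.{u} A := ModuleCat.of A P'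
  let Dm : ModuleCat.{u} A := ModuleCat.of A (Module.Dual A P)
  haveI : Module.Flat A (P'm ⊗ Dm : ModuleCat.{u} A) :=
    inferInstanceAs (Module.Flat A (TensorProduct A P' (Module.Dual A P)))
  let h1 : ((FP Pm).obj ω)⟦n⟧ ≅ ((FP P'm).obj ω)⟦n'⟧ :=
    (shiftFunctor (Dual.D A) n).mapIso ((ltensorIso Pm).app ω).symm ≪≫ h ≪≫
      (shiftFunctor (Dual.D A) n').mapIso ((ltensorIso P'm).app ω)
  let a1 : (FP Dm).obj (((FP Pm).obj ω)⟦n⟧) ≅ ω⟦n⟧ :=
    ((FP Dm).commShiftIso n).app _ ≪≫
      (shiftFunctor (Dual.D A) n).mapIso ((fpCompIso Pm Dm (invIso P)).app ω)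
  let a2 : (FP Dm).obj (((FP P'm).obj ω)⟦n'⟧) ≅ ((FP (P'm ⊗ Dm)).obj ω)⟦n'⟧ :=
    ((FP Dm).commShiftIso n').app _ ≪≫
      (shiftFunctor (Dual.D A) n').mapIso ((fpTensorIso P'm Dm).app ω)
  let h2 : ω⟦n⟧ ≅ ((FP (P'm ⊗ Dm)).obj ω)⟦n'⟧ := a1.symm ≪≫ (FP Dm).mapIso h1 ≪≫ a2
  let h3 : ω⟦n - n'⟧ ≅ (FP (P'm ⊗ Dm)).obj ω :=
    (shiftFunctorAdd' (Dual.D A) n (-n') (n - n') (by omega)).app ω ≪≫
      (shiftFunctor (Dual.D A) (-n')).mapIso h2 ≪≫
      (shiftFunctorCompIsoId (Dual.D A) n' (-n') (by omega)).app _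
  obtain ⟨hm, ⟨eL⟩⟩ := core (TensorProduct A P' (Module.Dual A P)) ω hω (n - n') h3
  refine ⟨by omega, ⟨?_⟩⟩
  exact ((Module.Invertible.rightCancelEquiv (P := P') (Module.Invertible.linearEquiv A P)).symm
    ≪≫ₗ eL.rTensor P ≪≫ₗ TensorProduct.lid A P).symm

end Main

end Groth.Agent.Lib.Helper5.InvTw
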